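import Cfsg.Agent.Lib.Co2Recog.Model.Data
import Cfsg.Agent.Lib.Co2Recog.Layers.Dict
import Cfsg.Agent.Lib.E8Cent.Co2

/-!
The graph of crosses over a pair in the model of the second Conway group: coded monomial elements
fixing the pair, the edge element, and the representatives.
-/

set_option autoImplicit false
set_option maxRecDepth 20000

noncomputable section

namespace Cfsg.Agent.Co2Graph

open Cfsg Cfsg.Agent.Golay Cfsg.Agent.Leech Cfsg.Agent.PermCert
open Cfsg.Agent.SporPerm Cfsg.Agent.LeechMod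
open Cfsg.Agent.Co2Recog.Layers (incl2 incl2_fix N2 liftU incl2_lift vecU_outside)
open Cfsg.Agent.LeechOrbit (dec length_dec)
open Cfsg.Agent.Co1Out (el el_spec GenOK forceN forceN_eq stepP runP runP_spec run_spec prodEl)
open scoped Pointwise

/-! ### The group -/

/-- The centraliser side. -/
def C2 : Subgroup ↥Spor.Co2 := Subgroup.centralizer {E8Cent.t2}

theorem incl2_t2 : incl2 E8Cent.t2 = E8Cent.t0 := rfl

theorem mem_C2 {g : ↥Spor.Co2} : g ∈ C2 ↔ incl2 g ∈ E8Cent.Cc := by
  rw [C2, Subgroup.mem_centralizer_singleton_iff, E8Cent.mem_Cc, ← incl2_t2, ← map_mul, ← map_mul,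
    (show Function.Injective incl2 from Subgroup.inclusion_injective _).eq_iff]

/-! ### Crosses over the pair -/

theorem ip_u (v : leechLattice) :
    2 * ip v Spor.leechU = (v : GolayPt → ℤ) none + (v : GolayPt → ℤ) (some 0) := by
  have h := eight_ip v Spor.leechU
  have e : dotInt (v : GolayPt → ℤ) (Spor.leechU : GolayPt → ℤ) =
      (v : GolayPt → ℤ) none * 4 + (v : GolayPt → ℤ) (some 0) * 4 := by
    show ∑ p, (v : GolayPt → ℤ) p * Spor.vecU p = _
    rw [Finset.sum_eq_add none (some 0) (by simp) (fun p _ hp => by rw [vecU_outside p hp.1 hp.2, mul_zero])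
      (by simp) (by simp)]
    rfl
  omega

theorem neg_mem_xCross {x v : leechLattice} (h : v ∈ xCross x) : -v ∈ xCross x := by
  obtain ⟨hv, z, hz⟩ := h
  refine ⟨?_, z + v, ?_⟩
  · rw [← hv]
    have h1 := eight_ip (-v) (-v)
    have h2 := eight_ip v v
    have e : dotInt ((-v : leechLattice) : GolayPt → ℤ) ((-v : leechLattice) : GolayPt → ℤ) =
        dotInt (v : GolayPt → ℤ) v := Finset.sum_congr rfl fun p _ => by simp
    omega
  · rw [two_nsmul, show z + v + (z + v) = (z + z) + (v + v) by abel, ← two_nsmul z, ← hz]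
    abel

/-! ### The coded monomial elements -/

/-- The permutation with a number. -/
def permAt (k : ℕ) : Elt := (permList.getD (k / 40) []).getD (k % 40) (0, 0)

/-- The permutation preserves the code and the pair. -/
def permOK (e : Elt) : Bool :=
  validElt 5 24 e && isAutB e &&
    ((Nat.beq (get 5 e.1 0) 0 && Nat.beq (get 5 e.1 23) 23) || (Nat.beq (get 5 e.1 0) 23 && Nat.beq (get 5 e.1 23) 0))

/-- A code of a monomial element fixing the pair. -/
def mnOK (n : ℕ × ℕ) : Bool :=
  Nat.blt n.1 45 && inCode n.2 && !n.2.testBit 0 && !n.2.testBit 23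

/-- The monomial element with a code. -/
def mn (n : ℕ × ℕ) : Co0 :=
  open Classical in
  if h : permOf (permAt n.1) ∈ M24 ∧ ofMask n.2 ∈ golayCode then mono (⟨_, h.1⟩, ⟨_, h.2⟩) else 1

/-- The image of a coded vector under a coded monomial element. -/
def monoCode (n : ℕ × ℕ) (c : ℕ) : ℕ :=
  forceN' (permAt n.1).2 fun q =>
  pack 4 (fun i => bif n.2.testBit i then 16 - get 4 c (get 5 q i) else get 4 c (get 5 q i)) 24
where
  forceN' (m : ℕ) (k : ℕ → ℕ) : ℕ := match m with
    | 0 => k 0
    | m + 1 => k (m + 1)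

/-- No entry is `-8`. -/
def zeroFree (c : ℕ) : Bool := allBelow (fun i => !Nat.beq (get 4 c i) 0) 24

/-- One step: the edge element, or a monomial element. -/
def stepC : Option (ℕ × ℕ) → ℕ → (ℕ → Bool) → Bool
  | none, c, k => stepP sigCols c k
  | some n, c, k => mnOK n && zeroFree c && forceN (monoCode n c) k

/-- A word applied to a coded vector, the last letter first. -/
def stepsC : List (Option (ℕ × ℕ)) → ℕ → (ℕ → Bool) → Bool
  | [], c, k => k c
  | s :: w, c, k => stepsC w c fun r => stepC s r k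

/-- The element of a step. -/
def stepEl : Option (ℕ × ℕ) → Co0
  | none => el sigMat
  | some n => mn n

/-- The element of a word. -/
def wordEl (w : List (Option (ℕ × ℕ))) : Co0 := (w.map stepEl).prod

/-- The permutations all preserve the code and the pair. -/
def PermsOK : Prop := ∀ k < 45, permOK (permAt k) = true

/-- The edge element is checked. -/
def SigOK : Prop := GenOK (sigMat, sigCols)

section

variable (hP : PermsOK)
include hP

theorem mn_eq {n : ℕ × ℕ} (h : mnOK n = true) : ∃ (hσ : permOf (permAt n.1) ∈ M24)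
    (hc : ofMask n.2 ∈ golayCode), mn n = mono (⟨_, hσ⟩, ⟨_, hc⟩) := by
  simp only [mnOK, Bool.and_eq_true, Nat.blt_eq] at h
  have hp := hP _ h.1.1.1
  simp only [permOK, Bool.and_eq_true] at hp
  refine ⟨permOf_mem_M24 hp.1.1 hp.1.2, ofMask_mem_golayCode h.1.1.2, ?_⟩
  rw [mn, dif_pos ⟨permOf_mem_M24 hp.1.1 hp.1.2, ofMask_mem_golayCode h.1.1.2⟩]

theorem perm_valid {n : ℕ × ℕ} (h : mnOK n = true) : validElt 5 24 (permAt n.1) = true := by
  simp only [mnOK, Bool.and_eq_true, Nat.blt_eq] at h
  have hp := hP _ h.1.1.1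
  simp only [permOK, Bool.and_eq_true] at hp
  exact hp.1.1

theorem mn_smul {n : ℕ × ℕ} (h : mnOK n = true) (v : leechLattice) (p : GolayPt) :
    ((mn n • v : leechLattice) : GolayPt → ℤ) p =
      sgn (ofMask n.2) p * (v : GolayPt → ℤ) ((permOf (permAt n.1)).symm p) := by
  obtain ⟨hσ, hc, e⟩ := mn_eq hP h
  rw [e, mono_smul]
  rfl

theorem mn_mem {n : ℕ × ℕ} (h : mnOK n = true) : mn n ∈ crossStab := by
  obtain ⟨hσ, hc, e⟩ := mn_eq hP h
  rw [e]; exact mono_mem _

theorem mn_fix {n : ℕ × ℕ} (h : mnOK n = true) : mn n • Spor.leechU = Spor.leechU := by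
  refine Subtype.ext (funext fun p => ?_)
  rw [mn_smul hP h]
  have hv := perm_valid hP h
  simp only [mnOK, Bool.and_eq_true, Nat.blt_eq, Bool.not_eq_true'] at h
  have hpair := hP _ h.1.1.1
  simp only [permOK, Bool.and_eq_true, Bool.or_eq_true, Nat.beq_eq] at hpair
  set σ := permOf (permAt n.1) with hσ
  have hU : ∀ q : GolayPt, Spor.vecU q = if idx q = 0 ∨ idx q = 23 then 4 else 0 := by decide +kernel
  have himg : ∀ q, idx q = 0 ∨ idx q = 23 → idx (σ q) = 0 ∨ idx (σ q) = 23 := by
    intro q hq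
    rw [hσ, idx_permOf hv]
    rcases hq with e | e <;> rcases hpair.2 with ⟨a, b⟩ | ⟨a, b⟩ <;> rw [e] <;> omega
  show sgn (ofMask n.2) p * Spor.vecU (σ.symm p) = Spor.vecU p
  by_cases hp : idx p = 0 ∨ idx p = 23
  · have hpre : idx (σ.symm p) = 0 ∨ idx (σ.symm p) = 23 := by
      have h0 := himg (pt 0) (Or.inl (by decide))
      have h1 := himg (pt 23) (Or.inr (by decide))
      have hne : idx (σ (pt 0)) ≠ idx (σ (pt 23)) := fun e => by
        have := σ.injective (idx_injective e); exact absurd this (by decide)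
      have : σ (pt 0) = p ∨ σ (pt 23) = p := by
        rcases hp with e | e <;> rcases h0 with a | a <;> rcases h1 with b | b <;>
          first
            | omega
            | exact Or.inl (idx_injective (a.trans e.symm))
            | exact Or.inr (idx_injective (b.trans e.symm))
      rcases this with e | e <;> rw [← e, Equiv.symm_apply_apply]
      · exact Or.inl (by decide)
      · exact Or.inr (by decide)
    have hs : sgn (ofMask n.2) p = 1 := by
      rw [sgn, if_pos]
      rcases hp with e | e <;> simp [ofMask, e, h.1.2, h.2]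
    rw [hs, one_mul, hU, hU, if_pos hp, if_pos hpre]
  · have hpre : ¬ (idx (σ.symm p) = 0 ∨ idx (σ.symm p) = 23) := fun e => hp (by
      simpa using himg _ e)
    rw [hU, hU, if_neg hp, if_neg hpre, mul_zero]

/-- The element of the group with a code. -/
def mn2 {n : ℕ × ℕ} (h : mnOK n = true) : ↥Spor.Co2 := liftU (mn n) (mn_fix hP h)

theorem mn2_mem {n : ℕ × ℕ} (h : mnOK n = true) : mn2 hP h ∈ N2 := mn_mem hP h

theorem monoCode_spec {n : ℕ × ℕ} (h : mnOK n = true) {c : ℕ} (hz : zeroFree c = true)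
    {v : leechLattice} (hv : toVec (dec 24 c) = (v : GolayPt → ℤ)) :
    toVec (dec 24 (monoCode n c)) = ((mn n • v : leechLattice) : GolayPt → ℤ) := by
  funext p
  have hval := perm_valid hP h
  rw [Co1Recog.toVec_dec, mn_smul hP h]
  have hv' : (v : GolayPt → ℤ) ((permOf (permAt n.1)).symm p) =
      ((get 4 c (get 5 (permAt n.1).2 (idx p)) : ℕ) : ℤ) - 8 := by
    rw [← hv, Co1Recog.toVec_dec, idx_permOf_symm hval]
  rw [hv']
  have hlt : get 4 c (get 5 (permAt n.1).2 (idx p)) < 16 := Nat.mod_lt _ (by norm_num)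
  have hne := allBelow_spec _ _ hz _ (idx_permOf_symm hval p ▸ idx_lt ((permOf (permAt n.1)).symm p))
  simp only [Bool.not_eq_true', ← Bool.not_eq_true, Nat.beq_eq] at hne
  have hget : get 4 (monoCode n c) (idx p) = (bif n.2.testBit (idx p) then
      16 - get 4 c (get 5 (permAt n.1).2 (idx p)) else get 4 c (get 5 (permAt n.1).2 (idx p))) % 16 := by
    unfold monoCode
    rw [show ∀ m k, monoCode.forceN' m k = k m from fun m k => by cases m <;> rfl, get_pack 4 _ 24 _ (idx_lt p)]
    rfl
  rw [hget, sgn]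
  cases hb : n.2.testBit (idx p) <;> simp only [ofMask, hb, cond_true, cond_false]
  · rw [if_pos (by simp), Nat.mod_eq_of_lt hlt]; ring
  · rw [if_neg (by simp), Nat.mod_eq_of_lt (by omega)]; omega

variable (hS : SigOK)
include hS

theorem stepC_spec {s : Option (ℕ × ℕ)} {c : ℕ} {k : ℕ → Bool} (h : stepC s c k = true) {v : leechLattice}
    (hv : toVec (dec 24 c) = (v : GolayPt → ℤ)) :
    (∀ n, s = some n → mnOK n = true) ∧
      ∃ q, toVec (dec 24 q) = ((stepEl s • v : leechLattice) : GolayPt → ℤ) ∧ k q = true := by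
  cases s with
  | none =>
    have hg : ∀ g ∈ [((sigMat, sigCols) : Co1Out.Gen)], GenOK g := fun g hg => List.mem_singleton.1 hg ▸ hS
    obtain ⟨q, hq, hk⟩ := runP_spec (Ms := [(sigMat, sigCols)]) hg (c := c) (k := k) h
    refine ⟨fun n e => (nomatch e), q, ?_, hk⟩
    rw [hq, run_spec hg (length_dec _ _) hv]
    simp [prodEl, stepEl]
  | some n =>
    simp only [stepC, forceN_eq, Bool.and_eq_true] at h
    exact ⟨fun m e => by cases e; exact h.1.1, _, monoCode_spec hP h.1.1 h.1.2 hv, h.2⟩

theorem stepsC_spec : ∀ {w : List (Option (ℕ × ℕ))} {c : ℕ} {k : ℕ → Bool}, stepsC w c k = true →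
    ∀ {v : leechLattice}, toVec (dec 24 c) = (v : GolayPt → ℤ) →
    (∀ n, some n ∈ w → mnOK n = true) ∧
      ∃ q, toVec (dec 24 q) = ((wordEl w • v : leechLattice) : GolayPt → ℤ) ∧ k q = true
  | [], c, k, h, v, hv => ⟨fun n hn => absurd hn List.not_mem_nil, c, by simpa [wordEl] using hv, h⟩
  | s :: w, c, k, h, v, hv => by
    obtain ⟨hw, r, hr, hrk⟩ := stepsC_spec (k := fun r => stepC s r k) h hv
    obtain ⟨hs, q, hq, hqk⟩ := stepC_spec hP hS hrk hr
    refine ⟨fun n hn => ?_, q, ?_, hqk⟩
    · rcases List.mem_cons.1 hn with e | e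
      · exact hs n e.symm
      · exact hw n e
    · rw [hq, wordEl, wordEl, List.map_cons, List.prod_cons, mul_smul]

end

end Cfsg.Agent.Co2Graph
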