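import Cfsg.Agent.Lib.Co2Recog.Model.Basic
import Cfsg.Agent.Lib.Leech.SporGroups

/-!
Orders and lower bounds for the subgroups of monomial elements fixing the pair.
-/

set_option autoImplicit false
set_option maxRecDepth 20000

noncomputable section

namespace Cfsg.Agent.Co2Graph

open Cfsg Cfsg.Agent.Golay Cfsg.Agent.Leech Cfsg.Agent.PermCert
open Cfsg.Agent.SporPerm Cfsg.Agent.LeechMod
open Cfsg.Agent.Co2Recog.Layers (incl2 N2 liftU incl2_lift vecU_outside)
open scoped Pointwise

/-- The pair. -/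
def pairSet : Finset GolayPt := {none, some 0}

theorem finite_Co2 : Finite ↥Spor.Co2 :=
  Nat.finite_of_card_ne_zero (by rw [Leech.isCo2_spor.2]; norm_num)

/-- Orbit–stabiliser for finite sets of points. -/
theorem card_inf_stab (H : Subgroup (Equiv.Perm GolayPt)) (s : Finset GolayPt) (T : Finset (Finset GolayPt))
    (hT : ∀ h ∈ H, h • s ∈ T) :
    Nat.card ↥H ≤ Nat.card ↥(H ⊓ MulAction.stabilizer (Equiv.Perm GolayPt) s) * T.card := by
  have hc : Nat.card ↥(MulAction.stabilizer ↥H s) =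
      Nat.card ↥(H ⊓ MulAction.stabilizer (Equiv.Perm GolayPt) s) :=
    Nat.card_congr
      { toFun := fun h => ⟨(h : ↥H), (h : ↥H).2, h.2⟩
        invFun := fun g => ⟨⟨g, g.2.1⟩, g.2.2⟩
        left_inv := fun _ => rfl
        right_inv := fun _ => rfl }
  rw [← hc, ← Subgroup.card_mul_index (MulAction.stabilizer ↥H s), MulAction.index_stabilizer]
  refine Nat.mul_le_mul_left _ ?_
  rw [← Set.ncard_coe_finset]
  refine Set.ncard_le_ncard ?_ T.finite_toSet
  rintro _ ⟨h, rfl⟩
  exact hT _ h.2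

theorem card_pairStab : 887040 ≤ Nat.card ↥(stOct pairSet) := by
  have h := card_inf_stab M24 pairSet ((Finset.univ : Finset GolayPt).powersetCard 2) fun g _ =>
    Finset.mem_powersetCard.2 ⟨Finset.subset_univ _, by rw [Finset.card_smul_finset]; decide⟩
  rw [card_M24, Finset.card_powersetCard, show (Finset.univ : Finset GolayPt).card = 24 from rfl,
    show Nat.choose 24 2 = 276 by decide] at h
  show 887040 ≤ Nat.card ↥(M24 ⊓ MulAction.stabilizer (Equiv.Perm GolayPt) pairSet)
  omega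

theorem card_pairOctStab :
    11520 ≤ Nat.card ↥(stOct (maskSet E8Cent.oMask) ⊓ MulAction.stabilizer (Equiv.Perm GolayPt) pairSet) := by
  have hsub : pairSet ⊆ maskSet E8Cent.oMask ∧ popCount E8Cent.oMask 24 = 8 := by decide +kernel
  have h := card_inf_stab (stOct (maskSet E8Cent.oMask)) pairSet ((maskSet E8Cent.oMask).powersetCard 2)
    fun g hg => Finset.mem_powersetCard.2 ⟨by
      rw [← (mem_stOct.1 hg).2]
      exact Finset.smul_finset_subset_smul_finset hsub.1, by rw [Finset.card_smul_finset]; decide⟩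
  rw [card_stOct E8Cent.oSet_mem, Finset.card_powersetCard, card_maskSet, hsub.2,
    show Nat.choose 8 2 = 28 by decide] at h
  omega

/-- The values at the pair. -/
def pairVal : golayCode →+ ZMod 2 × ZMod 2 where
  toFun c := ((c : GolayPt → ZMod 2) none, (c : GolayPt → ZMod 2) (some 0))
  map_zero' := rfl
  map_add' _ _ := rfl

theorem card_pairCode : 1024 ≤ Nat.card ↥pairVal.ker := by
  have h := AddSubgroup.card_eq_card_quotient_mul_card_addSubgroup pairVal.ker
  have h' : Nat.card (golayCode ⧸ pairVal.ker) ≤ 4 := by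
    rw [Nat.card_congr (QuotientAddGroup.quotientKerEquivRange pairVal).toEquiv]
    exact (Nat.card_le_card_of_injective _ Subtype.val_injective).trans (by simp)
  rw [card_golayCode] at h
  nlinarith

theorem mem_pairVal {c : ↥pairVal.ker} {p : GolayPt} (hp : p ∈ pairSet) :
    ((c : golayCode) : GolayPt → ZMod 2) p = 0 := by
  obtain ⟨c, hc⟩ := c
  have h : ((c : GolayPt → ZMod 2) none, (c : GolayPt → ZMod 2) (some 0)) = ((0 : ZMod 2), (0 : ZMod 2)) := hc
  rw [Prod.ext_iff] at h
  rcases Finset.mem_insert.1 hp with rfl | hp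
  · exact h.1
  · rw [Finset.mem_singleton.1 hp]; exact h.2

theorem mono_fixU {a : M24 × golayCode}
    (hσ : (a.1 : Equiv.Perm GolayPt) • pairSet = pairSet)
    (hc : ∀ p ∈ pairSet, (a.2 : GolayPt → ZMod 2) p = 0) : mono a • Spor.leechU = Spor.leechU := by
  refine Subtype.ext (funext fun p => ?_)
  rw [mono_smul]
  show sgn (a.2 : GolayPt → ZMod 2) p * Spor.vecU ((a.1 : Equiv.Perm GolayPt).symm p) = Spor.vecU p
  have hval : ∀ q, Spor.vecU q = if q ∈ pairSet then 4 else 0 := by decide +kernel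
  have hmem : (a.1 : Equiv.Perm GolayPt).symm p ∈ pairSet ↔ p ∈ pairSet := by
    conv_rhs => rw [← hσ, ← Equiv.apply_symm_apply (a.1 : Equiv.Perm GolayPt) p, ← Equiv.Perm.smul_def,
      Finset.smul_mem_smul_finset_iff]
  rw [hval, hval]
  by_cases hp : p ∈ pairSet
  · rw [if_pos hp, if_pos (hmem.2 hp), sgn, if_pos (hc p hp), one_mul]
  · rw [if_neg hp, if_neg (mt hmem.1 hp), mul_zero]

/-- The monomial element of a pair. -/
def pairElt (g : Equiv.Perm GolayPt) (hg : g ∈ stOct pairSet) (c : ↥pairVal.ker) : ↥Spor.Co2 :=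
  liftU (mono (⟨g, (mem_stOct.1 hg).1⟩, (c : golayCode)))
    (mono_fixU (mem_stOct.1 hg).2 fun _ hp => mem_pairVal hp)

theorem pairElt_inj {g g' : Equiv.Perm GolayPt} {hg : g ∈ stOct pairSet} {hg' : g' ∈ stOct pairSet}
    {c c' : ↥pairVal.ker} (h : pairElt g hg c = pairElt g' hg' c') : g = g' ∧ c = c' := by
  have h' := mono_injective (congrArg incl2 h)
  simp only [Prod.mk.injEq, Subtype.mk.injEq] at h'
  exact ⟨h'.1, Subtype.ext h'.2⟩

theorem pairElt_mem (g : Equiv.Perm GolayPt) (hg : g ∈ stOct pairSet) (c : ↥pairVal.ker) :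
    pairElt g hg c ∈ N2 := mono_mem _

theorem card_N2 : 908328960 ≤ Nat.card ↥N2 := by
  have := finite_Co2
  let f : ↥(stOct pairSet) × ↥pairVal.ker → ↥N2 := fun x => ⟨pairElt x.1 x.1.2 x.2, pairElt_mem _ _ _⟩
  have hf : Function.Injective f := fun x y e => by
    obtain ⟨a, b⟩ := pairElt_inj (hg := x.1.2) (hg' := y.1.2) (congrArg Subtype.val e)
    exact Prod.ext (Subtype.ext a) b
  refine le_trans ?_ (Nat.card_le_card_of_injective f hf)
  rw [Nat.card_prod]
  exact le_trans (by norm_num) (Nat.mul_le_mul card_pairStab card_pairCode)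

theorem card_N2C2 : 11796480 ≤ Nat.card ↥(N2 ⊓ C2) := by
  have := finite_Co2
  let S := stOct (maskSet E8Cent.oMask) ⊓ MulAction.stabilizer (Equiv.Perm GolayPt) pairSet
  have hS : ∀ {g}, g ∈ S → g ∈ stOct pairSet := fun h => ⟨h.1.1, h.2⟩
  let f : ↥S × ↥pairVal.ker → ↥(N2 ⊓ C2) := fun x => ⟨pairElt x.1 (hS x.1.2) x.2, pairElt_mem _ _ _,
    mem_C2.2 (by
      rw [pairElt, incl2_lift]
      refine E8Cent.mono_mem_Cc fun p => ?_
      show E8Cent.oMask.testBit (idx ((x.1 : Equiv.Perm GolayPt) p)) = true ↔ E8Cent.oMask.testBit (idx p) = true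
      rw [← mem_maskSet, ← mem_maskSet]
      conv_lhs => rw [← (mem_stOct.1 x.1.2.1).2, ← Equiv.Perm.smul_def, Finset.smul_mem_smul_finset_iff])⟩
  have hf : Function.Injective f := fun x y e => by
    obtain ⟨a, b⟩ := pairElt_inj (hg := hS x.1.2) (hg' := hS y.1.2) (congrArg Subtype.val e)
    exact Prod.ext (Subtype.ext a) b
  refine le_trans ?_ (Nat.card_le_card_of_injective f hf)
  rw [Nat.card_prod]
  exact le_trans (by norm_num) (Nat.mul_le_mul card_pairOctStab card_pairCode)

theorem card_C2 : Nat.card ↥C2 = 743178240 := by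
  have h := Subgroup.card_mul_index E8Cent.St
  rw [E8Cent.index_St, E8Cent.group_facts.1] at h
  rw [show Nat.card ↥C2 = Nat.card ↥E8Cent.St from Nat.card_congr E8Cent.centEquiv.toEquiv]
  omega

theorem card_Co2 : Nat.card ↥Spor.Co2 = 42305421312000 := Leech.isCo2_spor.2

end Cfsg.Agent.Co2Graph
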