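import Cfsg.Agent.Lib.Co2Recog.Model.Checks

/-!
The edge element in the group, the markers, and crosses meeting the minimal vector.
-/

set_option autoImplicit false
set_option maxRecDepth 20000

noncomputable section

namespace Cfsg.Agent.Co2Graph

open Cfsg Cfsg.Agent.Golay Cfsg.Agent.Leech Cfsg.Agent.PermCert
open Cfsg.Agent.SporPerm Cfsg.Agent.LeechMod
open Cfsg.Agent.Co2Recog.Layers (incl2 incl2_fix N2 liftU incl2_lift giAt giAt_lt xCross_axis)
open Cfsg.Agent.LeechOrbit (dec length_dec)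
open Cfsg.Agent.Co1Out (el el_spec GenOK forceN_eq app axisL toVec_axisL length_axisL eq_of_sameOK prodEl)
open Cfsg.Agent.Co1Recog (toVec_dec exists_bv nbr mem_nbr nbr_spec nbr_mem sx_spec sxAt baseOK_all sxOK)
open scoped Pointwise

attribute [local irreducible] sigMat sigCols permList blockList triList farWord spreadList edgeMark farMark

/-! ### The edge element -/

/-- The vector as a list. -/
def uL : List ℤ := (List.range 24).map fun i => if i = 0 ∨ i = 23 then 4 else 0

theorem toVec_uL : ∀ p : GolayPt, toVec uL p = Spor.vecU p := by decide +kernel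

theorem sig_eq {v : leechLattice} {l : List ℤ} (hl : l.length = 24) (hv : toVec l = (v : GolayPt → ℤ)) :
    toVec (app sigMat l) = ((el sigMat • v : leechLattice) : GolayPt → ℤ) := by
  rw [el_spec sigOK.1, ← hv, mapMat_toVec (Co1Out.shapeOK_of_matOK sigOK.1) hl]
  rfl

theorem sig_fixU : el sigMat • Spor.leechU = Spor.leechU := by
  have h := sig_fix
  simp only [sigFixOK, Bool.and_eq_true, eqV_iff] at h
  refine Subtype.ext ?_
  rw [← sig_eq (l := uL) (by simp [uL]) (funext toVec_uL), show app sigMat uL = uL from h.1]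
  exact funext toVec_uL

/-- The edge element. -/
def sigma2 : ↥Spor.Co2 := liftU (el sigMat) sig_fixU

theorem sigma2_sq : sigma2 * sigma2 = 1 := by
  have h := eq_of_sameOK (Ls := [(sigMat, sigCols), (sigMat, sigCols)]) (Rs := [])
    (fun g hg => by rcases List.mem_cons.1 hg with e | e
                    · exact e ▸ sigOK
                    · exact (List.mem_singleton.1 e) ▸ sigOK)
    (fun g hg => absurd hg List.not_mem_nil) sig_sq
  refine (show Function.Injective incl2 from Subgroup.inclusion_injective _) ?_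
  show incl2 (sigma2 * sigma2) = incl2 1
  rw [map_mul, map_one]
  simpa [prodEl, sigma2, incl2_lift] using h

theorem sig_comm : el sigMat ∈ E8Cent.Cc := by
  have h := sig_fix
  simp only [sigFixOK, Bool.and_eq_true] at h
  rw [E8Cent.mem_Cc]
  refine co0_ext fun q => Subtype.ext (funext fun r => ?_)
  have hq : E8Cent.t0 • axis q = E8Cent.sg q • axis q := Subtype.ext (funext fun u => by
    rw [E8Cent.t0_smul, AddSubgroup.coe_zsmul, Pi.smul_apply, smul_eq_mul, coe_axis, Pi.single_apply]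
    split_ifs with hu
    · rw [hu]
    · rw [mul_zero, mul_zero])
  rw [mul_smul, mul_smul, hq, E8Cent.t0_smul, ← hom0_apply (el sigMat) (_ • _), map_zsmul, hom0_apply,
    AddSubgroup.coe_zsmul, Pi.smul_apply, smul_eq_mul]
  have hent := allBelow_spec _ _ (allBelow_spec _ _ h.2 _ (idx_lt q)) _ (idx_lt r)
  simp only [Bool.or_eq_true, beq_iff_eq] at hent
  rcases hent with e | e
  · rw [show E8Cent.sg q = E8Cent.sg r by unfold E8Cent.sg; rw [e]]
  · have : ((el sigMat • axis q : leechLattice) : GolayPt → ℤ) r = 0 := by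
      rw [← sig_eq (length_axisL _) (toVec_axisL q)]
      exact e
    rw [this, mul_zero, mul_zero]

theorem sigma2_mem : sigma2 ∈ C2 := mem_C2.2 sig_comm

/-! ### Markers -/

theorem toVec_axisCode {a : ℕ} (ha : a < 24) :
    toVec (dec 24 (axisCode a)) = ((-axis (pt ⟨a, ha⟩) : leechLattice) : GolayPt → ℤ) := by
  funext q
  rw [toVec_dec, axisCode, get_pack 4 _ 24 _ (idx_lt q), AddSubgroup.coe_neg, coe_axis, Pi.neg_apply,
    Pi.single_apply]
  by_cases h : q = pt ⟨a, ha⟩
  · subst h
    rw [idx_pt, if_pos rfl, show Nat.beq a a = true from Nat.beq_refl a]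
    norm_num
  · rw [if_neg h, show Nat.beq (idx q) a = false from Bool.eq_false_iff.2 fun e => h (idx_injective (by
      rw [idx_pt]; exact Nat.eq_of_beq_eq_true e))]
    norm_num

/-- A marker as a vector of its cross. -/
theorem exists_mark {w : List (Option (ℕ × ℕ))} {a m : ℕ} (h : markOK w a m = true) :
    (∀ n, some n ∈ w → mnOK n = true) ∧ ∃ v : leechLattice, toVec (dec 24 m) = (v : GolayPt → ℤ) ∧
      ip v v = 8 ∧ xCross v = wordEl w • stdX := by
  simp only [markOK, Bool.and_eq_true, Nat.blt_eq] at h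
  obtain ⟨⟨ha, hz⟩, hs⟩ := h
  obtain ⟨hw, q, hq, hqm⟩ := stepsC_spec permsOK sigOK hs (toVec_axisCode ha)
  refine ⟨hw, ?_⟩
  have hax : -axis (pt ⟨a, ha⟩) ∈ stdX := by
    rw [← xCross_axis (pt ⟨a, ha⟩)]
    exact neg_mem_xCross (self_mem_xCross (ip_axis_self _))
  have hin : wordEl w • -axis (pt ⟨a, ha⟩) ∈ wordEl w • stdX := Set.smul_mem_smul_set hax
  rw [stdX, smul_xCross] at hin ⊢
  simp only [Bool.or_eq_true, Nat.beq_eq] at hqm
  obtain ⟨v, hv, hvin⟩ : ∃ v : leechLattice, toVec (dec 24 m) = (v : GolayPt → ℤ) ∧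
      v ∈ xCross (wordEl w • axis none) := by
    rcases hqm with e | e
    · exact ⟨_, e ▸ hq, hin⟩
    · refine ⟨_, ?_, neg_mem_xCross hin⟩
      funext p
      have hp := congrFun hq p
      rw [e, toVec_dec, negCode, get_pack 4 _ 24 _ (idx_lt p)] at hp
      rw [toVec_dec, AddSubgroup.coe_neg, Pi.neg_apply, ← hp]
      have hlt : get 4 m (idx p) < 2 ^ 4 := Nat.mod_lt _ (by norm_num)
      have hne := allBelow_spec _ _ hz _ (idx_lt p)
      simp only [Bool.not_eq_true', ← Bool.not_eq_true, Nat.beq_eq] at hne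
      rw [Nat.mod_eq_of_lt (by omega)]
      omega
  exact ⟨v, hv, hvin.1, xCross_eq_of_mem hvin⟩

theorem edge_vec : ∃ v : leechLattice, toVec (dec 24 edgeMark.2) = (v : GolayPt → ℤ) ∧ ip v v = 8 ∧
    zeroFree edgeMark.2 = true ∧ xCross v = incl2 sigma2 • stdX ∧ incl2 sigma2 • stdX = nbr baseJ := by
  have h := edge_mark
  simp only [Bool.and_eq_true] at h
  obtain ⟨-, v, hv, h8, hx⟩ := exists_mark h.1
  have hx' : xCross v = incl2 sigma2 • stdX := by
    rw [hx]; simp [wordEl, stepEl, sigma2, incl2_lift]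
  have hm := h.1
  simp only [markOK, Bool.and_eq_true] at hm
  refine ⟨v, hv, h8, hm.1.2, hx', ?_⟩
  have he := h.2
  simp only [edgeMarkOK, Bool.and_eq_true, Nat.blt_eq, List.any_eq_true] at he
  obtain ⟨hj, U, hU, hb⟩ := he
  obtain ⟨v', hv', hbv⟩ := exists_bv hb
  obtain rfl : v' = v := Subtype.ext (hv'.symm.trans hv)
  have hmem := mem_nbr baseOK_all hj hbv hU
  obtain ⟨w, -, -, ew⟩ := nbr_spec baseOK_all hj
  rw [ew] at hmem
  rw [← hx', ew, xCross_eq_of_mem hmem]

theorem sigma2_B : incl2 sigma2 • stdX ∈ crossOrbit .B := by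
  obtain ⟨v, -, -, -, -, e⟩ := edge_vec
  have h := edge_mark
  simp only [edgeMarkOK, Bool.and_eq_true, Nat.blt_eq] at h
  rw [e]
  exact nbr_mem baseOK_all h.2.1

/-- A coded vector of a row lies in the neighbour. -/
theorem row_mem {j k s : ℕ} (hj : j < 3542) (hk : k < 6)
    (hb : Co1Recog.bvOK (Co1Recog.mkV ((sxAt (j / 2)).getD k 0) s) ((sxAt (j / 2)).getD k 0) (j % 2) = true) :
    ∃ v : leechLattice, toVec (dec 24 (Co1Recog.mkV ((sxAt (j / 2)).getD k 0) s)) = (v : GolayPt → ℤ) ∧
      Co1Recog.BV (v : GolayPt → ℤ) ((sxAt (j / 2)).getD k 0) (j % 2) ∧ xCross v = nbr j := by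
  obtain ⟨v, hv, hbv⟩ := exists_bv hb
  obtain ⟨L', hL'e, hL'⟩ := sx_spec baseOK_all hj
  have hlen : (sxAt (j / 2)).length = 6 := by
    rw [hL'e]; simp only [sxOK, Bool.and_eq_true, Nat.beq_eq] at hL'; exact hL'.1.1
  have hU : (sxAt (j / 2)).getD k 0 ∈ sxAt (j / 2) := by
    rw [List.getD_eq_getElem _ _ (by omega)]; exact List.getElem_mem _
  have hmem := mem_nbr baseOK_all hj hbv hU
  obtain ⟨w, -, -, ew⟩ := nbr_spec baseOK_all hj
  rw [ew] at hmem
  exact ⟨v, hv, hbv, by rw [ew, xCross_eq_of_mem hmem]⟩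

/-- An element moving the edge to a neighbour. -/
theorem edgeTo_spec {j r : ℕ} (hj : j < 3542) (h : edgeTo j r = true) :
    ∃ hn : mnOK (rowMn r) = true, ∃ v : leechLattice,
      toVec (dec 24 (monoCode (rowMn r) edgeMark.2)) = (v : GolayPt → ℤ) ∧ xCross v = nbr j ∧
      incl2 (mn2 permsOK hn) • incl2 sigma2 • stdX = nbr j := by
  simp only [edgeTo, forceN_eq, Bool.and_eq_true, Nat.blt_eq, Nat.beq_eq] at h
  obtain ⟨⟨hk, hn⟩, hb, he⟩ := h
  obtain ⟨v, hv, -, hx⟩ := row_mem hj hk hb
  obtain ⟨m, hm, -, hz, hmx, -⟩ := edge_vec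
  refine ⟨hn, v, by rw [he]; exact hv, hx, ?_⟩
  have e : mn (rowMn r) • m = v := Subtype.ext (by
    rw [← monoCode_spec permsOK hn hz hm, he]; exact hv)
  rw [← hmx, smul_xCross, mn2, incl2_lift, e, hx]

/-! ### Two vectors of a cross over the minimal vector -/

theorem two_over {v w : leechLattice} (hv : ip v v = 8) (hw : w ∈ xCross v) (h1 : ip v Spor.leechU = 4)
    (h2 : ip w Spor.leechU = 4) : w = v ∨ ∀ p, (w : GolayPt → ℤ) p = 2 * Spor.vecU p - (v : GolayPt → ℤ) p := by
  obtain ⟨g, hg⟩ := exists_to_axis hv none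
  have hgw : g • w ∈ xCross (axis none) := by
    rw [← hg, ← smul_xCross]; exact Set.smul_mem_smul_set hw
  obtain ⟨i, s, hs, e⟩ := mem_stdCross_iff.1 (mem_xCross_axis.1 hgw)
  by_cases hi : i = none
  · subst hi
    rcases hs with rfl | rfl
    · left
      rw [one_smul, ← hg] at e
      exact MulAction.injective g e
    · exfalso
      rw [neg_one_zsmul, ← hg, ← co0_neg] at e
      have := MulAction.injective g e
      rw [this] at h2
      have h3 := eight_ip (-v) Spor.leechU
      have h4 := eight_ip v Spor.leechU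
      have : dotInt ((-v : leechLattice) : GolayPt → ℤ) (Spor.leechU : GolayPt → ℤ) =
          -dotInt (v : GolayPt → ℤ) (Spor.leechU : GolayPt → ℤ) := by
        simp [dotInt, Finset.sum_neg_distrib]
      omega
  · right
    have h0 : ip v w = 0 := by
      rw [← co0_ip g v w, hg, e, ip_comm, ip_axis]
      simp [coe_axis, Ne.symm hi]
    have hsum : ∑ p, ((w : GolayPt → ℤ) p + (v : GolayPt → ℤ) p - 2 * Spor.vecU p) ^ 2 = 0 := by
      have e1 := eight_ip v v
      have e2 := eight_ip w w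
      have e3 := eight_ip v w
      have e4 := eight_ip v Spor.leechU
      have e5 := eight_ip w Spor.leechU
      have e6 : ∑ p, Spor.vecU p * Spor.vecU p = 32 := by decide +kernel
      rw [hv] at e1; rw [hw.1] at e2; rw [h0] at e3; rw [h1] at e4; rw [h2] at e5
      simp only [dotInt] at e1 e2 e3 e4 e5
      rw [show (Spor.leechU : GolayPt → ℤ) = Spor.vecU from rfl] at e4 e5
      rw [Finset.sum_congr rfl fun p _ => show _ = ((w : GolayPt → ℤ) p * (w : GolayPt → ℤ) p +
          (v : GolayPt → ℤ) p * (v : GolayPt → ℤ) p + 2 * ((v : GolayPt → ℤ) p * (w : GolayPt → ℤ) p) -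
          4 * ((w : GolayPt → ℤ) p * Spor.vecU p) - 4 * ((v : GolayPt → ℤ) p * Spor.vecU p) +
          4 * (Spor.vecU p * Spor.vecU p)) by ring]
      simp only [Finset.sum_add_distrib, Finset.sum_sub_distrib, ← Finset.mul_sum]
      omega
    intro p
    have := (Finset.sum_eq_zero_iff_of_nonneg fun q _ => sq_nonneg _).1 hsum p (Finset.mem_univ p)
    rw [sq_eq_zero_iff] at this
    omega

end Cfsg.Agent.Co2Graph
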