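import Cfsg.Agent.Lib.Co2Recog.Model.Gen
import Cfsg.Agent.Lib.Co2Recog.Layers.Cert

/-!
The certificate of the amalgam of the monomial elements and the centraliser.
-/

set_option autoImplicit false
set_option maxRecDepth 20000

namespace Cfsg.Agent.Co2Graph

open Cfsg
open Cfsg.Agent.Co2Recog.Layers (N2)

/-- The two subgroups generate the group. -/
theorem sup_eq_top : N2 ⊔ C2 = ⊤ := by
  rw [eq_top_iff, ← gen_sigma]
  refine (Subgroup.closure_le _).2 fun x hx => ?_
  rcases hx with h | h
  · exact Subgroup.mem_sup_left h
  · rw [Set.mem_singleton_iff.1 h]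
    exact Subgroup.mem_sup_right sigma2_mem

/-- **The certificate of the graph of crosses over the pair.** -/
theorem graphCert : Co1Amalgam.GraphCert N2 C2 sigma2 where
  mem := sigma2_mem
  sq := by rw [sigma2_sq]; exact one_mem _
  inC := in_block
  tri := tri_block
  genC := genC
  gen := sup_eq_top
  layered := Co2Recog.Layers.layered_cert sigma2_B gen_sigma

end Cfsg.Agent.Co2Graph
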