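import Cfsg.Agent.Lib.Co2Recog.Model.Edge

/-!
The block of the edge, and the triangles on it.
-/

set_option autoImplicit false
set_option maxRecDepth 20000

noncomputable section

namespace Cfsg.Agent.Co2Graph

open Cfsg Cfsg.Agent.Golay Cfsg.Agent.Leech Cfsg.Agent.PermCert
open Cfsg.Agent.SporPerm Cfsg.Agent.LeechMod
open Cfsg.Agent.Co2Recog.Layers (incl2 incl2_fix N2 liftU incl2_lift giAt giAt_lt cx cx_mk coset_iff
  edgeAdj_iff exists_good exists_four)
open Cfsg.Agent.Co1Amalgam (edgeAdj)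
open Cfsg.Agent.LeechOrbit (dec)
open Cfsg.Agent.Co1Out (forceN_eq)
open Cfsg.Agent.Co1Recog (toVec_dec exists_bv nbr mem_nbr nbr_spec sx_spec sxAt baseOK_all sxOK bvOK_mkV
  adjB_of_adj Adj adj_stdX adj_iff_of)
open scoped Pointwise

attribute [local irreducible] sigMat sigCols permList blockList triList farWord spreadList edgeMark farMark

/-- The element of a block entry. -/
theorem block_elt {i : ℕ} (hi : i < 462) (hodd : blockAt i % 2 = 1) :
    ∃ k : ↥Spor.Co2, k ∈ N2 ∧ k ∈ C2 ∧ (∃ hn : mnOK (rowMn (blockAt i / 2)) = true, k = mn2 permsOK hn) ∧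
      incl2 k • incl2 sigma2 • stdX = nbr (giAt i) := by
  have h := allBelow_spec _ _ block_rows i hi
  simp only [blockRow, forceN_eq] at h
  rw [show Nat.beq (blockAt i % 2) 1 = true by rw [Nat.beq_eq]; exact hodd, cond_true, Bool.and_eq_true] at h
  obtain ⟨hn, -, -, -, hk⟩ := edgeTo_spec (giAt_lt hi) h.1
  refine ⟨mn2 permsOK hn, mn2_mem permsOK hn, mem_C2.2 ?_, ⟨hn, rfl⟩, hk⟩
  obtain ⟨hσ, hc, e⟩ := mn_eq permsOK hn
  rw [mn2, incl2_lift, e]
  refine E8Cent.mono_mem_Cc fun p => ?_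
  have := allBelow_spec _ _ h.2 _ (idx_lt p)
  simp only [beq_iff_eq] at this
  show E8Cent.oMask.testBit (idx (permOf (permAt (rowMn (blockAt i / 2)).1) p)) = true ↔ _
  rw [idx_permOf (perm_valid permsOK hn), this]

/-- A neighbour cut by the octad is no translate of the base by the centraliser. -/
theorem cut_not_C {i : ℕ} (hi : i < 462) (heven : blockAt i % 2 ≠ 1) {g : Co0} (hg : g ∈ E8Cent.Cc) :
    g • stdX ≠ nbr (giAt i) := by
  intro e
  have h := allBelow_spec _ _ block_rows i hi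
  simp only [blockRow, forceN_eq] at h
  rw [show Nat.beq (blockAt i % 2) 1 = false from Bool.eq_false_iff.2 fun e' =>
    heven (Nat.eq_of_beq_eq_true e'), cond_false] at h
  simp only [Bool.and_eq_true, Nat.blt_eq, Bool.not_eq_true', ← Bool.not_eq_true, Nat.beq_eq] at h
  obtain ⟨hk, h0, h4⟩ := h
  have hj := giAt_lt hi
  obtain ⟨L', hL'e, hL'⟩ := sx_spec baseOK_all hj
  have hlen : (sxAt (giAt i / 2)).length = 6 := by
    rw [hL'e]; simp only [sxOK, Bool.and_eq_true, Nat.beq_eq] at hL'; exact hL'.1.1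
  set T := (sxAt (giAt i / 2)).getD (blockAt i / 2) 0 with hTdef
  have hT : T ∈ sxAt (giAt i / 2) := by
    rw [hTdef, List.getD_eq_getElem _ _ (by omega)]; exact List.getElem_mem _
  have hT4 := ((Co1Recog.sxOK_spec hL').1 T (hL'e ▸ hT)).1
  obtain ⟨v, -, hbv⟩ := exists_bv (bvOK_mkV hT4 (Nat.mod_lt (giAt i) two_pos))
  have hv := mem_nbr baseOK_all hj hbv hT
  rw [← e] at hv
  obtain ⟨w, hw, rfl⟩ := hv
  obtain ⟨q, s, hs, rfl⟩ := mem_stdCross_iff.1 (mem_xCross_axis.1 hw)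
  simp only at hbv
  -- the sign change is constant on the support
  have key : ∀ p, ((g • (s • axis q) : leechLattice) : GolayPt → ℤ) p ≠ 0 → E8Cent.sg p = E8Cent.sg q := by
    intro p hp
    have hq : E8Cent.t0 • axis q = E8Cent.sg q • axis q := Subtype.ext (funext fun u => by
      rw [E8Cent.t0_smul, AddSubgroup.coe_zsmul, Pi.smul_apply, smul_eq_mul, coe_axis, Pi.single_apply]
      split_ifs with hu
      · rw [hu]
      · rw [mul_zero, mul_zero])
    have e1 := congrFun (congrArg (fun x : Co0 => ((x • (s • axis q) : leechLattice) : GolayPt → ℤ))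
      (E8Cent.mem_Cc.1 hg)) p
    simp only [mul_smul] at e1
    rw [E8Cent.t0_smul, show E8Cent.t0 • (s • axis q) = E8Cent.sg q • (s • axis q) by
      rw [← hom0_apply E8Cent.t0 (_ • _), map_zsmul, hom0_apply, hq, smul_comm],
      ← hom0_apply g (E8Cent.sg q • _), map_zsmul, hom0_apply, AddSubgroup.coe_zsmul, Pi.smul_apply,
      smul_eq_mul] at e1
    exact (mul_right_cancel₀ hp e1).symm
  have hnz : ∀ p ∈ maskSet T, ((g • (s • axis q) : leechLattice) : GolayPt → ℤ) p ≠ 0 := by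
    intro p hp
    rcases hbv.val p with ⟨-, a | a⟩ | ⟨hb, -⟩
    · rw [a]; norm_num
    · rw [a]; norm_num
    · rw [mem_maskSet, hb] at hp; exact absurd hp Bool.false_ne_true
  have hinter : (maskSet T ∩ maskSet E8Cent.oMask).card = popCount (T &&& E8Cent.oMask) 24 := by
    rw [← maskSet_and, card_maskSet]
  by_cases hq : E8Cent.oMask.testBit (idx q) = true
  · refine h4 ?_
    rw [← hinter, Finset.inter_eq_left.2 (fun p hp => ?_), card_maskSet, hT4]
    have := key p (hnz p hp)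
    rw [mem_maskSet]
    by_contra hp'
    simp [E8Cent.sg, hp', hq] at this
  · refine h0 ?_
    rw [← hinter, Finset.card_eq_zero, Finset.eq_empty_iff_forall_notMem]
    intro p hp
    rw [Finset.mem_inter, mem_maskSet (m := E8Cent.oMask)] at hp
    have := key p (hnz p hp.1)
    simp [E8Cent.sg, hp.2, hq] at this

/-- **The neighbours of the base inside the block.** -/
theorem in_block (c : ↥Spor.Co2) (hc : c ∈ C2)
    (hadj : edgeAdj N2 sigma2 ((1 : ↥Spor.Co2) : ↥Spor.Co2 ⧸ N2) (c : ↥Spor.Co2 ⧸ N2)) :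
    ∃ n ∈ N2, n ∈ C2 ∧ (n * sigma2)⁻¹ * c ∈ N2 := by
  rw [edgeAdj_iff sigma2_B, cx_mk, cx_mk, map_one, adj_iff_of rfl, inv_one, one_smul] at hadj
  obtain ⟨i, hi, e⟩ := exists_good hadj (exists_four (incl2_fix c))
  by_cases hodd : blockAt i % 2 = 1
  · obtain ⟨k, hkN, hkC, -, hk⟩ := block_elt hi hodd
    refine ⟨k, hkN, hkC, ?_⟩
    rw [← QuotientGroup.eq, coset_iff, map_mul, mul_smul, hk, e]
  · exact absurd e (cut_not_C hi hodd (mem_C2.1 hc))

/-- **Triangles lie in blocks.** -/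
theorem tri_block : ∀ x y w : ↥Spor.Co2 ⧸ N2, edgeAdj N2 sigma2 x y → edgeAdj N2 sigma2 y w →
    edgeAdj N2 sigma2 x w → ∃ (p a b c : ↥Spor.Co2), a ∈ C2 ∧ b ∈ C2 ∧ c ∈ C2 ∧
      ((p * a : ↥Spor.Co2) : ↥Spor.Co2 ⧸ N2) = x ∧ ((p * b : ↥Spor.Co2) : ↥Spor.Co2 ⧸ N2) = y ∧
      ((p * c : ↥Spor.Co2) : ↥Spor.Co2 ⧸ N2) = w := by
  rintro _ _ w ⟨p, rfl, rfl⟩ hyw hxw
  obtain ⟨q, rfl⟩ := QuotientGroup.mk_surjective w
  rw [edgeAdj_iff sigma2_B, cx_mk, cx_mk] at hyw hxw
  set Y : Set leechLattice := incl2 (p⁻¹ * q) • stdX with hY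
  have hq : incl2 q • stdX = incl2 p • Y := by
    rw [hY, ← mul_smul, ← map_mul, mul_inv_cancel_left]
  rw [hq, adj_iff_of rfl, inv_smul_smul] at hxw
  obtain ⟨i, hi, eY⟩ := exists_good hxw (exists_four (incl2_fix _))
  obtain ⟨v, hv, -, hz, hvx, hbase⟩ := edge_vec
  have hj0 : baseJ < 3542 := by
    have := edge_mark
    simp only [edgeMarkOK, Bool.and_eq_true, Nat.blt_eq] at this
    exact this.2.1
  rw [hq, map_mul, mul_smul, hbase, Co1Recog.Adj.smul_iff, eY] at hyw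
  have hadj := adjB_of_adj baseOK_all hj0 (giAt_lt hi) hyw
  have hfull := allBelow_spec _ _ tri_full i hi
  simp only [triFull, hadj, Bool.not_true, Bool.false_or, List.any_eq_true, Nat.beq_eq] at hfull
  obtain ⟨B, hB, E, hE, hEi⟩ := hfull
  have hrow := List.all_eq_true.1 (List.all_eq_true.1 tri_rows B hB) E hE
  obtain ⟨⟨i', b⟩, n, ⟨k1, s1⟩, ⟨k0, s0⟩⟩ := E
  simp only at hEi
  subst hEi
  simp only [triRow, forceN_eq, Bool.and_eq_true, Nat.blt_eq, Nat.beq_eq] at hrow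
  obtain ⟨⟨⟨⟨⟨⟨⟨-, hb⟩, hk1⟩, hk0⟩, hn⟩, hodd⟩, hb0, he0⟩, hzb, hb1, he1⟩ := hrow
  obtain ⟨k, hkN, hkC, ⟨hnb, rfl⟩, hk⟩ := block_elt hb hodd
  obtain ⟨v0, hv0, -, hx0⟩ := row_mem hj0 hk0 hb0
  obtain ⟨v1, hv1, -, hx1⟩ := row_mem (giAt_lt hi) hk1 hb1
  have e0 : mn n • v = v0 := Subtype.ext (by rw [← monoCode_spec permsOK hn hz hv, he0]; exact hv0)
  obtain ⟨u, hu⟩ : ∃ u : leechLattice, u = mn (rowMn (blockAt b / 2)) • v := ⟨_, rfl⟩
  have huc : toVec (dec 24 (monoCode (rowMn (blockAt b / 2)) edgeMark.2)) = (u : GolayPt → ℤ) := by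
    rw [hu, monoCode_spec permsOK hnb hz hv]
  have e1 : mn n • u = v1 := Subtype.ext (by rw [← monoCode_spec permsOK hn hzb huc, he1]; exact hv1)
  have hub : xCross u = nbr (giAt b) := by
    rw [hu, ← smul_xCross, hvx]
    exact hk
  refine ⟨p * mn2 permsOK hn, 1, sigma2, mn2 permsOK hnb * sigma2, one_mem _, sigma2_mem,
    mul_mem hkC sigma2_mem, ?_, ?_, ?_⟩
  · rw [mul_one]
    refine QuotientGroup.eq.2 ?_
    rw [mul_inv_rev, mul_assoc, inv_mul_cancel, mul_one]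
    exact inv_mem (mn2_mem permsOK hn)
  · rw [coset_iff, map_mul, map_mul, map_mul, mul_smul, mul_smul, mul_smul]
    congr 1
    rw [hbase]
    conv_rhs => rw [← hx0, ← e0, ← smul_xCross, hvx, hbase]
    rfl
  · rw [coset_iff, map_mul, map_mul, map_mul, mul_smul, mul_smul, mul_smul, hk, hq, eY]
    congr 1
    rw [← hub, smul_xCross]
    show xCross (mn n • u) = _
    rw [e1, hx1]

end Cfsg.Agent.Co2Graph
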