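import Cfsg.Agent.Lib.Co2Recog.Model.Basic

/-! The tests on the tables of the graph of crosses over a pair. -/

set_option autoImplicit false
set_option maxRecDepth 20000

namespace Cfsg.Agent.Co2Graph

open Cfsg.Agent.Golay Cfsg.Agent.PermCert
open Cfsg.Agent.Co2Recog.Layers (giAt)
open Cfsg.Agent.Co1Recog (sxAt mkV bvOK tagOK layT adjB)
open Cfsg.Agent.Co1Out (forceN stepP)

/-- The negative of a code. -/
def negCode (m : ℕ) : ℕ := pack 4 (fun i => 16 - get 4 m i) 24

/-- The code of the negative of an axis. -/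
def axisCode (a : ℕ) : ℕ := pack 4 (fun i => bif Nat.beq i a then 0 else 8) 24

/-- A marker lies in its cross. -/
def markOK (w : List (Option (ℕ × ℕ))) (a m : ℕ) : Bool :=
  Nat.blt a 24 && zeroFree m && stepsC w (axisCode a) fun q => Nat.beq q m || Nat.beq q (negCode m)

/-- The element in a packed row. -/
def rowMn (r : ℕ) : ℕ × ℕ := (r / 2 ^ 19 % 512, r / 2 ^ 28)

/-- The tetrad in a packed row. -/
def rowU (j r : ℕ) : ℕ := (sxAt (j / 2)).getD (r % 8) 0

/-- The vector in a packed row. -/
def rowVec (j r : ℕ) : ℕ := mkV (rowU j r) (r / 8 % 16)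

/-- An element moves the marker of the edge into a neighbour. -/
def edgeTo (j r : ℕ) : Bool :=
  Nat.blt (r % 8) 6 && mnOK (rowMn r) &&
    forceN (rowVec j r) fun c => bvOK c (rowU j r) (j % 2) && Nat.beq (monoCode (rowMn r) edgeMark.2) c

/-- A row of the block. -/
def blockAt (i : ℕ) : ℕ := (blockList.getD (i / 42) []).getD (i % 42) 0

/-- The permutation preserves the octad. -/
def fixO (e : Elt) : Bool :=
  allBelow (fun i => E8Cent.oMask.testBit (get 5 e.1 i) == E8Cent.oMask.testBit i) 24

/-- A neighbour is in the block, or has a tetrad cut by the octad. -/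
def blockRow (i : ℕ) : Bool :=
  forceN (blockAt i) fun b =>
  bif Nat.beq (b % 2) 1 then edgeTo (giAt i) (b / 2) && fixO (permAt (rowMn (b / 2)).1)
  else Nat.blt (b / 2) 6 &&
    forceN ((sxAt (giAt i / 2)).getD (b / 2) 0) fun T =>
      forceN (popCount (T &&& E8Cent.oMask) 24) fun n => !Nat.beq n 0 && !Nat.beq n 4

/-- The positions of the block are distinct. -/
def blockPosOK : Bool :=
  Nat.beq blockPos.length 30 && blockPos.all (fun i => Nat.blt i 462 && Nat.beq (blockAt i % 2) 1) &&
    (List.range 30).all fun a => (List.range a).all fun b =>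
      !Nat.beq (blockPos.getD a 0) (blockPos.getD b 0)

/-- A common neighbour is the image of one in the block. -/
def triRow : (ℕ × ℕ) × (ℕ × ℕ) × (ℕ × ℕ) × (ℕ × ℕ) → Bool
  | ((i, b), n, (k1, s1), (k0, s0)) =>
    Nat.blt i 462 && Nat.blt b 462 && Nat.blt k1 6 && Nat.blt k0 6 && mnOK n && Nat.beq (blockAt b % 2) 1 &&
    (forceN ((sxAt (baseJ / 2)).getD k0 0) fun U => forceN (mkV U s0) fun c =>
      bvOK c U (baseJ % 2) && Nat.beq (monoCode n edgeMark.2) c) &&
    (forceN (monoCode (rowMn (blockAt b / 2)) edgeMark.2) fun v => zeroFree v &&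
      forceN ((sxAt (giAt i / 2)).getD k1 0) fun U => forceN (mkV U s1) fun c =>
        bvOK c U (giAt i % 2) && Nat.beq (monoCode n v) c)

/-- Every common neighbour is listed. -/
def triFull (i : ℕ) : Bool :=
  !adjB baseJ (giAt i) || triList.any fun B => B.any fun e => Nat.beq e.1.1 i

/-- The marker of the edge is in its neighbour. -/
def edgeMarkOK : Bool := Nat.blt baseJ 3542 && (sxAt (baseJ / 2)).any fun U => bvOK edgeMark.2 U (baseJ % 2)

/-- The last marker, and permutations spreading its far point. -/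
def spreadOK : Bool :=
  Nat.beq spreadList.length 22 && Nat.beq (get 4 farMark.2 0 + get 4 farMark.2 23) 24 &&
    Nat.blt farPt 24 && !Nat.beq farPt 0 && !Nat.beq farPt 23 &&
    (allBelow (fun i => forceN (get 4 farMark.2 i) fun d =>
      bif Nat.beq i farPt then Nat.beq d 5 || Nat.beq d 11
      else bif Nat.beq i 0 || Nat.beq i 23 then Nat.beq d 3 || Nat.beq d 5 || Nat.beq d 11 || Nat.beq d 13
      else Nat.beq d 7 || Nat.beq d 9) 24) &&
    spreadList.all (fun k => Nat.blt k 45 && Nat.beq (get 5 (permAt k).1 0) 0 && Nat.beq (get 5 (permAt k).1 23) 23) &&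
    (List.range 22).all fun a => (List.range a).all fun b =>
      !Nat.beq (get 5 (permAt (spreadList.getD a 0)).1 farPt) (get 5 (permAt (spreadList.getD b 0)).1 farPt)

/-- The edge element fixes the vector and respects the octad. -/
def sigFixOK : Bool :=
  SporPerm.eqV (Co1Out.app sigMat ((List.range 24).map fun i => if i = 0 ∨ i = 23 then 4 else 0))
      ((List.range 24).map fun i => if i = 0 ∨ i = 23 then 4 else 0) &&
    allBelow (fun j => allBelow (fun i => (E8Cent.oMask.testBit i == E8Cent.oMask.testBit j) ||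
      (Co1Out.app sigMat (Co1Out.axisL j)).getD i 0 == 0) 24) 24

end Cfsg.Agent.Co2Graph
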