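import Cfsg.Agent.Lib.Co2Recog.Model.Check

/-! Kernel checks of the edge element, the block and the triangles. -/

set_option autoImplicit false
set_option maxRecDepth 20000
set_option Elab.async false

namespace Cfsg.Agent.Co2Graph

open Cfsg.Agent.PermCert (allBelow allBelow_spec)

theorem sig_mat : (SporPerm.matOK sigMat && LeechOrbit.smallOK sigMat && LeechOrbit.colsOK sigMat sigCols) = true := by
  decide +kernel

theorem sigOK : SigOK := by
  have h := sig_mat
  simp only [Bool.and_eq_true] at h
  exact ⟨h.1.1, h.1.2, h.2⟩

theorem perm_checks : allBelow (fun k => permOK (permAt k)) 45 = true := by decide +kernel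

theorem permsOK : PermsOK := fun k hk => allBelow_spec _ _ perm_checks k hk

theorem sig_sq : Co1Out.sameOK [(sigMat, sigCols), (sigMat, sigCols)] [] 1 = true := by decide +kernel

theorem sig_fix : sigFixOK = true := by decide +kernel

theorem edge_mark : (markOK [none] edgeMark.1 edgeMark.2 && edgeMarkOK) = true := by decide +kernel

theorem far_mark : (markOK farWord farMark.1 farMark.2 && spreadOK) = true := by decide +kernel

theorem block_rows : allBelow blockRow 462 = true := by decide +kernel

theorem block_pos : blockPosOK = true := by decide +kernel

theorem tri_rows : (triList.all fun B => B.all triRow) = true := by decide +kernel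

theorem tri_full : allBelow triFull 462 = true := by decide +kernel

end Cfsg.Agent.Co2Graph
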