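import Cfsg.Agent.Lib.Co2Recog.Model.Block
import Cfsg.Agent.Lib.Co2Recog.Model.Count

/-!
The edge element generates the centraliser over its monomial part, and the group over the monomial elements.
-/

set_option autoImplicit false
set_option maxRecDepth 20000

noncomputable section

namespace Cfsg.Agent.Co2Graph

open Cfsg Cfsg.Agent.Golay Cfsg.Agent.Leech Cfsg.Agent.PermCert
open Cfsg.Agent.SporPerm Cfsg.Agent.LeechMod
open Cfsg.Agent.Co2Recog.Layers (incl2 incl2_fix N2 liftU incl2_lift giAt giAt_lt coset_iff list_check)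
open Cfsg.Agent.LeechOrbit (dec)
open Cfsg.Agent.Co1Out (forceN_eq)
open Cfsg.Agent.Co1Recog (toVec_dec nbr nbr_inj nbr_mem baseOK_all)
open scoped Pointwise

attribute [local irreducible] sigMat sigCols permList blockList blockPos triList farWord spreadList edgeMark farMark

theorem giAt_inj {m n : ℕ} (hm : m < 462) (hn : n < 462) (h : giAt m = giAt n) : m = n := by
  have h' := list_check
  simp only [Bool.and_eq_true, beq_iff_eq, Nat.beq_eq] at h'
  obtain ⟨⟨he, hl⟩, ha⟩ := h'
  have hnd : Co2Recog.Layers.goodIdx.flatten.Nodup := he ▸ List.nodup_range.filter _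
  have hmm := allBelow_spec _ _ ha m hm
  have hnn := allBelow_spec _ _ ha n hn
  rw [Nat.beq_eq, List.getD_eq_getElem _ _ (by omega)] at hmm hnn
  exact (hnd.getElem_inj_iff (hi := by omega) (hj := by omega)).1 (by rw [hmm, hnn, h])

/-- A translate of the edge by a monomial element of the centraliser, for each position. -/
theorem block_reps : ∃ r : Option (Fin 30) → ↥Spor.Co2,
    (∀ o, r o ∈ Subgroup.closure (((N2 ⊓ C2 : Subgroup ↥Spor.Co2) : Set ↥Spor.Co2) ∪ {sigma2})) ∧
      ∀ o o', ((r o : ↥Spor.Co2) : ↥Spor.Co2 ⧸ N2) = (r o' : ↥Spor.Co2 ⧸ N2) → o = o' := by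
  have hp := block_pos
  simp only [blockPosOK, Bool.and_eq_true, Nat.beq_eq, List.all_eq_true, Nat.blt_eq, Bool.not_eq_true',
    ← Bool.not_eq_true, List.mem_range] at hp
  obtain ⟨⟨hlen, hrow⟩, hdist⟩ := hp
  have hmem : ∀ a : Fin 30, blockPos.getD a.1 0 ∈ blockPos := fun a => by
    rw [List.getD_eq_getElem _ _ (by omega)]; exact List.getElem_mem _
  have hk : ∀ a : Fin 30, ∃ k : ↥Spor.Co2, k ∈ N2 ⊓ C2 ∧
      incl2 (k * sigma2) • stdX = nbr (giAt (blockPos.getD a.1 0)) := fun a => by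
    obtain ⟨hlt, hodd⟩ := hrow _ (hmem a)
    obtain ⟨k, hkN, hkC, -, e⟩ := block_elt hlt hodd
    exact ⟨k, ⟨hkN, hkC⟩, by rw [map_mul, mul_smul, e]⟩
  choose k hkm hke using hk
  have hne : ∀ a : Fin 30, incl2 1 • stdX ≠ incl2 (k a * sigma2) • stdX := fun a e => by
    rw [hke, map_one, one_smul] at e
    exact stdX_not_mem .B (e ▸ nbr_mem baseOK_all (giAt_lt (hrow _ (hmem a)).1))
  refine ⟨fun o => o.elim 1 fun a => k a * sigma2, ?_, ?_⟩
  · rintro (_ | a)
    · exact one_mem _
    · exact mul_mem (Subgroup.subset_closure (Or.inl (hkm a))) (Subgroup.subset_closure (Or.inr rfl))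
  · rintro (_ | a) (_ | b) h
    · rfl
    · exact absurd (coset_iff.1 h) (hne b)
    · exact absurd (coset_iff.1 h).symm (hne a)
    · have e := coset_iff.1 h
      simp only [Option.elim] at e
      rw [hke, hke] at e
      have := giAt_inj (hrow _ (hmem a)).1 (hrow _ (hmem b)).1
        (nbr_inj baseOK_all (giAt_lt (hrow _ (hmem a)).1) (giAt_lt (hrow _ (hmem b)).1) e)
      refine congrArg some (Fin.ext ?_)
      rcases Nat.lt_trichotomy a.1 b.1 with hab | hab | hab
      · exact absurd this.symm (hdist _ b.2 _ hab)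
      · exact hab
      · exact absurd this (hdist _ a.2 _ hab)

/-- **The centraliser is generated by its monomial part and the edge element.** -/
theorem genC : C2 ≤ Subgroup.closure (((N2 ⊓ C2 : Subgroup ↥Spor.Co2) : Set ↥Spor.Co2) ∪ {sigma2}) := by
  have := finite_Co2
  set L := Subgroup.closure (((N2 ⊓ C2 : Subgroup ↥Spor.Co2) : Set ↥Spor.Co2) ∪ {sigma2}) with hLdef
  have hLC : L ≤ C2 := (Subgroup.closure_le _).2 fun x hx => by
    rcases hx with h | h
    · exact h.2
    · rw [Set.mem_singleton_iff.1 h]; exact sigma2_mem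
  have hNL : N2 ⊓ C2 ≤ L := fun x hx => Subgroup.subset_closure (Or.inl hx)
  obtain ⟨r, hr, hinj⟩ := block_reps
  let f : Option (Fin 30) × ↥(N2 ⊓ C2) → ↥L := fun x => ⟨r x.1 * x.2, mul_mem (hr _) (hNL x.2.2)⟩
  have hf : Function.Injective f := by
    rintro ⟨o, n⟩ ⟨o', n'⟩ e
    have e' : r o * (n : ↥Spor.Co2) = r o' * (n' : ↥Spor.Co2) := congrArg Subtype.val e
    obtain rfl := hinj o o' (QuotientGroup.eq.2 (by
      have hx : (r o)⁻¹ * r o' = (n : ↥Spor.Co2) * (n' : ↥Spor.Co2)⁻¹ := by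
        rw [eq_mul_inv_iff_mul_eq, mul_assoc, ← e', inv_mul_cancel_left]
      rw [hx]
      exact mul_mem n.2.1 (inv_mem n'.2.1)))
    exact Prod.ext rfl (Subtype.ext (mul_left_cancel e'))
  have h31 := Nat.card_le_card_of_injective f hf
  rw [Nat.card_prod, Nat.card_eq_fintype_card, Fintype.card_option, Fintype.card_fin] at h31
  obtain ⟨q, hq⟩ := Subgroup.card_dvd_of_le hNL
  obtain ⟨k, hk⟩ := Subgroup.card_dvd_of_le hLC
  rw [card_C2] at hk
  have hlow := card_N2C2
  have hk1 : k = 1 := by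
    rcases Nat.lt_or_ge k 2 with h | h
    · rcases Nat.eq_zero_or_pos k with rfl | h'
      · simp at hk
      · omega
    · exfalso
      have hq31 : 31 ≤ q := le_of_mul_le_mul_left (a := Nat.card ↥(N2 ⊓ C2)) (by rw [← hq]; linarith) (by omega)
      have h2q : 2 * q ≤ 63 := le_of_mul_le_mul_left (a := 11796480) (by
        calc 11796480 * (2 * q) ≤ Nat.card ↥(N2 ⊓ C2) * (2 * q) := Nat.mul_le_mul_right _ hlow
          _ = Nat.card ↥L * 2 := by rw [hq]; ring
          _ ≤ Nat.card ↥L * k := Nat.mul_le_mul_left _ h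
          _ = 11796480 * 63 := by rw [← hk]) (by norm_num)
      obtain rfl : q = 31 := by omega
      have hd : 31 ∣ 743178240 := ⟨Nat.card ↥(N2 ⊓ C2) * k, by rw [hk, hq]; ring⟩
      norm_num at hd
  rw [Subgroup.eq_of_le_of_card_ge hLC (by rw [card_C2, hk, hk1, mul_one])]

theorem word_elt : ∀ {w : List (Option (ℕ × ℕ))}, (∀ n, some n ∈ w → mnOK n = true) →
    ∃ F : ↥Spor.Co2, F ∈ Subgroup.closure ((N2 : Set ↥Spor.Co2) ∪ {sigma2}) ∧ incl2 F = wordEl w
  | [], _ => ⟨1, one_mem _, map_one _⟩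
  | s :: w, h => by
    obtain ⟨F, hF, e⟩ := word_elt (w := w) fun n hn => h n (List.mem_cons_of_mem _ hn)
    cases s with
    | none => exact ⟨sigma2 * F, mul_mem (Subgroup.subset_closure (Or.inr rfl)) hF, by
        rw [map_mul, e, sigma2, incl2_lift]; rfl⟩
    | some n => exact ⟨mn2 permsOK (h n List.mem_cons_self) * F,
        mul_mem (Subgroup.subset_closure (Or.inl (mn2_mem permsOK (h n List.mem_cons_self)))) hF, by
        rw [map_mul, e, mn2, incl2_lift]; rfl⟩

/-- A marker with its far point. -/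
theorem far_facts : ∃ F : ↥Spor.Co2, F ∈ Subgroup.closure ((N2 : Set ↥Spor.Co2) ∪ {sigma2}) ∧
    ∃ (p0 : GolayPt) (σ : Fin 22 → Equiv.Perm GolayPt) (v : leechLattice), ip v v = 8 ∧
      xCross v = incl2 F • stdX ∧ ip v Spor.leechU = 4 ∧ p0 ∉ pairSet ∧
      (∀ p, (v : GolayPt → ℤ) p ≠ 0) ∧ (v : GolayPt → ℤ) none ≠ 4 ∧
      ((v : GolayPt → ℤ) p0 ≠ 1 ∧ (v : GolayPt → ℤ) p0 ≠ -1) ∧
      (∀ p, p ∉ pairSet → p ≠ p0 → (v : GolayPt → ℤ) p = 1 ∨ (v : GolayPt → ℤ) p = -1) ∧
      (∀ m, σ m ∈ stOct pairSet ∧ σ m none = none ∧ σ m (some 0) = some 0) ∧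
      Function.Injective fun m => σ m p0 := by
  have h := far_mark
  simp only [Bool.and_eq_true] at h
  obtain ⟨hw, v, hv, h8, hx⟩ := exists_mark h.1
  obtain ⟨F, hF, eF⟩ := word_elt hw
  have hs := h.2
  simp only [spreadOK, forceN_eq, Bool.and_eq_true, Nat.beq_eq, Nat.blt_eq, List.all_eq_true,
    Bool.not_eq_true', ← Bool.not_eq_true, List.mem_range] at hs
  obtain ⟨⟨⟨⟨⟨⟨⟨hlen, hsum⟩, hfar⟩, hf0⟩, hf23⟩, hdig⟩, hperm⟩, hdist⟩ := hs
  obtain ⟨i0, hi0⟩ : ∃ i : Fin 22 → ℕ, ∀ m, i m = spreadList.getD m.1 0 := ⟨_, fun _ => rfl⟩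
  have hmem : ∀ m : Fin 22, i0 m ∈ spreadList := fun m => by
    rw [hi0, List.getD_eq_getElem _ _ (by omega)]; exact List.getElem_mem _
  have hval : ∀ m : Fin 22, validElt 5 24 (permAt (i0 m)) = true := fun m => by
    have := permsOK _ (hperm _ (hmem m)).1.1
    simp only [permOK, Bool.and_eq_true] at this
    exact this.1.1
  have hd : ∀ p : GolayPt, (v : GolayPt → ℤ) p = ((get 4 farMark.2 (idx p) : ℕ) : ℤ) - 8 := fun p => by
    rw [← hv, toVec_dec]
  have hpair : ∀ p : GolayPt, p ∈ pairSet ↔ idx p = 0 ∨ idx p = 23 := by decide +kernel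
  set p0 := pt ⟨farPt, hfar⟩ with hp0
  have hi : idx p0 = farPt := idx_pt _
  have hdig' : ∀ p : GolayPt, (p = p0 ∧ (get 4 farMark.2 (idx p) = 5 ∨ get 4 farMark.2 (idx p) = 11)) ∨
      (p ≠ p0 ∧ p ∈ pairSet ∧ (get 4 farMark.2 (idx p) = 3 ∨ get 4 farMark.2 (idx p) = 5 ∨
        get 4 farMark.2 (idx p) = 11 ∨ get 4 farMark.2 (idx p) = 13)) ∨
      (p ≠ p0 ∧ p ∉ pairSet ∧ (get 4 farMark.2 (idx p) = 7 ∨ get 4 farMark.2 (idx p) = 9)) := fun p => by
    have := allBelow_spec _ _ hdig _ (idx_lt p)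
    by_cases he : p = p0
    · refine Or.inl ⟨he, ?_⟩
      subst he
      rw [hi] at this ⊢
      rw [Nat.beq_refl, cond_true, Bool.or_eq_true, Nat.beq_eq, Nat.beq_eq] at this
      exact this
    · rw [show Nat.beq (idx p) farPt = false from Bool.eq_false_iff.2 fun e =>
        he (idx_injective ((Nat.eq_of_beq_eq_true e).trans hi.symm)), cond_false] at this
      by_cases hq : p ∈ pairSet
      · refine Or.inr (Or.inl ⟨he, hq, ?_⟩)
        rw [show (Nat.beq (idx p) 0 || Nat.beq (idx p) 23) = true by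
          rw [Bool.or_eq_true, Nat.beq_eq, Nat.beq_eq]; exact (hpair p).1 hq, cond_true] at this
        simpa only [Bool.or_eq_true, Nat.beq_eq, or_assoc] using this
      · refine Or.inr (Or.inr ⟨he, hq, ?_⟩)
        rw [show (Nat.beq (idx p) 0 || Nat.beq (idx p) 23) = false by
          rw [Bool.eq_false_iff, Ne, Bool.or_eq_true, Nat.beq_eq, Nat.beq_eq]
          exact mt (hpair p).2 hq, cond_false] at this
        simpa only [Bool.or_eq_true, Nat.beq_eq] using this
  have hnot : p0 ∉ pairSet := fun e => by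
    rw [hpair, hi] at e
    rcases e with e | e
    · exact hf0 e
    · exact hf23 e
  have hpr : idx none = 23 ∧ idx (some 0) = 0 := Co2Recog.Layers.idx_pair
  refine ⟨F, hF, p0, fun m => permOf (permAt (i0 m)), v, h8, by rw [hx, eF], ?_, hnot, fun p => ?_, ?_, ?_,
    fun p hp hp' => ?_, fun m => ?_, ?_⟩
  · have h1 := ip_u v
    rw [hd, hd, hpr.1, hpr.2] at h1
    omega
  · rw [hd]
    rcases hdig' p with ⟨-, e⟩ | ⟨-, -, e⟩ | ⟨-, -, e⟩ <;> omega
  · rw [hd]
    rcases hdig' none with ⟨e', -⟩ | ⟨-, -, e⟩ | ⟨-, e', -⟩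
    · exact absurd (e' ▸ (hpair none).2 (Or.inr hpr.1)) hnot
    · omega
    · exact absurd ((hpair none).2 (Or.inr hpr.1)) e'
  · rw [hd]
    rcases hdig' p0 with ⟨-, e⟩ | ⟨e, -⟩ | ⟨e, -⟩
    · omega
    · exact absurd rfl e
    · exact absurd rfl e
  · rcases hdig' p with ⟨e, -⟩ | ⟨-, e, -⟩ | ⟨-, -, e⟩
    · exact absurd e hp'
    · exact absurd e hp
    · rw [hd]; omega
  · obtain ⟨⟨hlt, h0⟩, h23⟩ := hperm _ (hmem m)
    have hk := permsOK _ hlt
    simp only [permOK, Bool.and_eq_true] at hk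
    have e0 : permOf (permAt (i0 m)) none = none := idx_injective (by
      rw [idx_permOf hk.1.1, hpr.1, h23])
    have e1 : permOf (permAt (i0 m)) (some 0) = some 0 := idx_injective (by
      rw [idx_permOf hk.1.1, hpr.2, h0])
    refine ⟨mem_stOct.2 ⟨permOf_mem_M24 hk.1.1 hk.1.2, ?_⟩, e0, e1⟩
    rw [pairSet, Finset.smul_finset_insert, Finset.smul_finset_singleton, Equiv.Perm.smul_def,
      Equiv.Perm.smul_def, e0, e1]
  · intro a b e
    have e' := congrArg idx e
    simp only [idx_permOf (hval a), idx_permOf (hval b), hi] at e'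
    rw [hi0, hi0] at e'
    refine Fin.ext ?_
    rcases Nat.lt_trichotomy a.1 b.1 with hab | hab | hab
    · exact absurd e'.symm (hdist _ (by omega) _ hab)
    · exact hab
    · exact absurd e' (hdist _ (by omega) _ hab)

/-- **The group is generated by the monomial elements and the edge element.** -/
theorem gen_sigma : Subgroup.closure ((N2 : Set ↥Spor.Co2) ∪ {sigma2}) = ⊤ := by
  have := finite_Co2
  set L := Subgroup.closure ((N2 : Set ↥Spor.Co2) ∪ {sigma2}) with hLdef
  have hCL : C2 ≤ L := genC.trans (Subgroup.closure_mono (Set.union_subset_union_left _ fun x hx => hx.1))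
  have hNL : N2 ≤ L := fun x hx => Subgroup.subset_closure (Or.inl hx)
  obtain ⟨F, hF, p0, σ, v, h8, hx, hu, hnot, hnz, hne4, ⟨hp1, hp2⟩, hone, hσ, hinj⟩ := far_facts
  let g : Fin 22 × ↥pairVal.ker → ↥Spor.Co2 := fun x => pairElt (σ x.1) (hσ x.1).1 x.2
  have hgN : ∀ x, g x ∈ N2 := fun x => pairElt_mem _ _ _
  have hact : ∀ x p, ((incl2 (g x) • v : leechLattice) : GolayPt → ℤ) p =
      sgn ((x.2 : golayCode) : GolayPt → ZMod 2) p * (v : GolayPt → ℤ) ((σ x.1).symm p) := fun x p => rfl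
  have hnone : ∀ x, ((incl2 (g x) • v : leechLattice) : GolayPt → ℤ) none = (v : GolayPt → ℤ) none := fun x => by
    rw [hact, show (σ x.1).symm none = none by rw [Equiv.symm_apply_eq, (hσ x.1).2.1],
      show sgn ((x.2 : golayCode) : GolayPt → ZMod 2) none = 1 by
        rw [sgn, if_pos (mem_pairVal (Finset.mem_insert_self _ _))], one_mul]
  have hip : ∀ x, ip (incl2 (g x) • v) Spor.leechU = 4 := fun x => by
    conv_lhs => rw [← incl2_fix (g x)]
    rw [co0_ip, hu]
  have hsep : ∀ x y, incl2 (g x * F) • stdX = incl2 (g y * F) • stdX → x = y := by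
    intro x y e
    rw [map_mul, map_mul, mul_smul, mul_smul, ← hx, smul_xCross, smul_xCross] at e
    have hw : incl2 (g y) • v ∈ xCross (incl2 (g x) • v) := by
      rw [e]; exact self_mem_xCross (by rw [co0_ip]; exact h8)
    rcases two_over (by rw [co0_ip]; exact h8) hw (hip x) (hip y) with he | he
    · have hpt : ∀ p, sgn ((y.2 : golayCode) : GolayPt → ZMod 2) p * (v : GolayPt → ℤ) ((σ y.1).symm p) =
          sgn ((x.2 : golayCode) : GolayPt → ZMod 2) p * (v : GolayPt → ℤ) ((σ x.1).symm p) := fun p => by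
        rw [← hact, ← hact, he]
      have hm : x.1 = y.1 := by
        refine hinj ?_
        show σ x.1 p0 = σ y.1 p0
        have h1 := hpt (σ x.1 p0)
        rw [Equiv.symm_apply_apply] at h1
        by_contra hd
        set q := (σ y.1).symm (σ x.1 p0) with hqdef
        have hq0 : q ≠ p0 := fun e' => hd (by
          have := congrArg (σ y.1) e'; rwa [hqdef, Equiv.apply_symm_apply] at this)
        have hqp : q ∉ pairSet := fun hq => by
          have hfix : σ x.1 q = σ y.1 q := by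
            rcases Finset.mem_insert.1 hq with e' | e'
            · rw [e', (hσ x.1).2.1, (hσ y.1).2.1]
            · rw [Finset.mem_singleton.1 e', (hσ x.1).2.2, (hσ y.1).2.2]
          rw [show σ y.1 q = σ x.1 p0 by rw [hqdef, Equiv.apply_symm_apply]] at hfix
          exact hnot ((σ x.1).injective hfix ▸ hq)
        rcases hone q hqp hq0 with a | a <;>
          rcases sgn_cases ((y.2 : golayCode) : GolayPt → ZMod 2) (σ x.1 p0) with b | b <;>
          rcases sgn_cases ((x.2 : golayCode) : GolayPt → ZMod 2) (σ x.1 p0) with c | c <;>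
          rw [a, b, c] at h1 <;> omega
      refine Prod.ext hm (Subtype.ext (Subtype.ext (funext fun p => ?_)))
      have h1 := hpt p
      rw [hm] at h1
      have h2 := mul_right_cancel₀ (hnz _) h1
      revert h2
      simp only [sgn]
      generalize ((x.2 : golayCode) : GolayPt → ZMod 2) p = a
      generalize ((y.2 : golayCode) : GolayPt → ZMod 2) p = b
      revert a b
      decide
    · exfalso
      have h1 := he none
      rw [hnone, hnone, show Spor.vecU none = 4 from rfl] at h1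
      omega
  let f : (Fin 22 × ↥pairVal.ker) × ↥N2 → ↥L := fun z =>
    ⟨g z.1 * F * z.2, mul_mem (mul_mem (hNL (hgN _)) hF) (hNL z.2.2)⟩
  have hf : Function.Injective f := by
    rintro ⟨x, n⟩ ⟨y, n'⟩ e
    have e' : g x * F * (n : ↥Spor.Co2) = g y * F * (n' : ↥Spor.Co2) := congrArg Subtype.val e
    obtain rfl := hsep x y (coset_iff.1 (QuotientGroup.eq.2 (by
      have hx' : (g x * F)⁻¹ * (g y * F) = (n : ↥Spor.Co2) * (n' : ↥Spor.Co2)⁻¹ := by
        rw [eq_mul_inv_iff_mul_eq, mul_assoc, ← e', inv_mul_cancel_left]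
      rw [hx']
      exact mul_mem n.2 (inv_mem n'.2))))
    exact Prod.ext rfl (Subtype.ext (mul_left_cancel e'))
  have hlow := Nat.card_le_card_of_injective f hf
  rw [Nat.card_prod, Nat.card_prod, Nat.card_fin] at hlow
  have hbig : 22 * 1024 * 908328960 ≤ Nat.card ↥L :=
    le_trans (Nat.mul_le_mul (Nat.mul_le_mul le_rfl card_pairCode) card_N2) hlow
  obtain ⟨j, hj⟩ := Subgroup.card_dvd_of_le hCL
  obtain ⟨k, hk⟩ := Subgroup.card_subgroup_dvd_card L
  rw [card_C2] at hj
  rw [card_Co2] at hk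
  refine Subgroup.eq_top_of_card_eq L ?_
  rw [card_Co2, hk]
  rcases (show k = 0 ∨ k = 1 ∨ k = 2 ∨ 3 ≤ k by omega) with rfl | rfl | rfl | h3
  · simp at hk
  · rw [mul_one]
  · omega
  · exfalso
    nlinarith

end Cfsg.Agent.Co2Graph
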